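/-
The tables for E8 agree with the Chevalley datum, and their combinatorial properties.
-/
import Cfsg.Agent.Lib.IteratedCores.E8Tables
import Cfsg.Prelude.Def_ChevStructure
import Cfsg.Prelude.Def_ChevE8

set_option autoImplicit false

namespace Cfsg.Agent.IteratedCores

open Cfsg.Lie

/-- The index of the `i`-th fundamental root. -/
def sp (i : ℕ) : ℕ := simps.getD i 0

/-- The root `w_i s`. -/
def rf (i s : ℕ) : ℕ := (refTab.getD i []).getD s 0

/-- The root `p_i + s`, or 240. -/
def ad (i s : ℕ) : ℕ := (addTab.getD i []).getD s 240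

/-- A lower bound for the `i`-th core, as a set of roots. -/
def rootSet (i : ℕ) : List ℕ := sets.getD i []

/-- The datum agrees with the tables at `(i, s)`. -/
def RefRow (i s : ℕ) : Prop := chevE8.reflectRoot i s = rf i s

instance (i s : ℕ) : Decidable (RefRow i s) := inferInstanceAs (Decidable (_ = _))

/-- The commutator formula for `(p_i, s)` agrees with the tables. -/
def AddRow (i s : ℕ) : Prop :=
  s = sp i ∨ s = 239 - sp i ∨
    (chevE8.commTerms (sp i) s).map (fun x => (x.1, x.2.1 % 2, x.2.2.1, x.2.2.2)) =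
      if ad i s = 240 then [] else [(ad i s, 1, 1, 1)]

instance (i s : ℕ) : Decidable (AddRow i s) := inferInstanceAs (Decidable (_ ∨ _ ∨ _))

theorem simple_eq : ∀ i < 8, chevE8.simple i = sp i ∧ 120 ≤ sp i ∧ sp i < 240 := by decide +kernel

theorem refRows : ∀ i < 8, ∀ s < 240, RefRow i s := by decide +kernel

theorem addRows : ∀ i < 8, ∀ s < 240, AddRow i s := by decide +kernel

theorem rf_lt : ∀ i < 8, ∀ s < 240, rf i s < 240 ∧ rf i (rf i s) = s ∧ ad i s ≤ 240 := by decide +kernel

theorem rf_simple : ∀ i < 8, rf i (sp i) = 239 - sp i := by decide +kernel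

theorem rf_three : rf 3 130 = 109 ∧ sp 3 = 130 := by decide +kernel

theorem sp_ne : ∀ i < 8, i ≠ 3 → rf i 130 ≠ 109 := by decide +kernel

/-- A positive root is fundamental or a sum of an earlier one and a fundamental root. -/
theorem pos_derived : ∀ r < 240, 120 ≤ r →
    (∃ i < 8, r = sp i) ∨ ∃ i < 8, ∃ s < 240, 120 ≤ s ∧ s < r ∧ s ≠ sp i ∧ ad i s = r := by
  decide +kernel

/-- Every positive root other than the highest one can be raised. -/
theorem raise : ∀ k < 239, 120 ≤ k → ∃ i < 8, k ≠ sp i ∧ ad i k < 240 ∧ k < ad i k := by decide +kernel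

/-- The positive roots that can be raised by `p_i`, in increasing order, with their images. -/
def raised (i : ℕ) : List ℕ := ((List.range' 120 120).filter fun k => decide (ad i k < 240)).map (ad i)

/-- Decision procedure for `Increasing`. -/
def increasingB : List ℕ → Bool
  | a :: b :: l => decide (a < b) && increasingB (b :: l)
  | _ => true

theorem raised_increasing : ∀ i < 8, increasingB (raised i) = true := by decide +kernel

theorem pairwise_of_increasingB : ∀ {l : List ℕ}, increasingB l = true → l.Pairwise (· < ·)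
  | [], _ => List.Pairwise.nil
  | [a], _ => List.pairwise_singleton _ a
  | a :: b :: l, h => by
    simp only [increasingB, Bool.and_eq_true, decide_eq_true_eq] at h
    have ih := pairwise_of_increasingB h.2
    refine List.pairwise_cons.2 ⟨fun x hx => ?_, ih⟩
    rcases List.mem_cons.1 hx with rfl | hx
    · exact h.1
    · exact h.1.trans ((List.pairwise_cons.1 ih).1 x hx)

/-- Raising is increasing. -/
theorem ad_mono {i : ℕ} (hi : i < 8) {k b : ℕ} (hk : 120 ≤ k) (hb : b < 240) (hkb : k < b)
    (h1 : ad i k < 240) (h2 : ad i b < 240) : ad i k < ad i b := by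
  have hp := pairwise_of_increasingB (raised_increasing i hi)
  have e : List.range' 120 120 = List.range' 120 (b - 120) ++ List.range' b (240 - b) := by
    have h := List.range'_append (s := 120) (m := b - 120) (n := 240 - b) (step := 1)
    rw [show 120 + 1 * (b - 120) = b by omega, show b - 120 + (240 - b) = 120 by omega] at h
    exact h.symm
  rw [raised, e, List.filter_append, List.map_append, List.pairwise_append] at hp
  refine hp.2.2 _ ?_ _ ?_
  · exact List.mem_map.2 ⟨k, List.mem_filter.2 ⟨List.mem_range'_1.2 ⟨hk, by omega⟩, by simpa using h1⟩, rfl⟩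
  · exact List.mem_map.2 ⟨b, List.mem_filter.2 ⟨List.mem_range'_1.2 ⟨le_rfl, by omega⟩, by simpa using h2⟩, rfl⟩

/-- The roots of the parabolic subgroup which are negative are reflections of later ones. -/
theorem levi_derived : ∀ r ∈ rootSet 0, 120 ≤ r ∨ ∃ j < 8, j ≠ 3 ∧ r < rf j r ∧ rf j r ∈ rootSet 0 := by
  decide +kernel

/-- The root set `l` is normalised by the parabolic subgroup. -/
def ClosedSet (l : List ℕ) : Prop :=
  ∀ s ∈ l, s < 240 ∧ ∀ i < 8, (i ≠ 3 → rf i s ∈ l) ∧
    (s = sp i ∨ (s = 239 - sp i ∧ sp i ∈ l) ∨ (s ≠ 239 - sp i ∧ (ad i s = 240 ∨ ad i s ∈ l)))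

instance (l : List ℕ) : Decidable (ClosedSet l) := inferInstanceAs (Decidable (∀ _, _ → _))

theorem sets_closed : ∀ i < 6, ClosedSet (rootSet i) := by decide +kernel

theorem sets_step : ∀ i < 5, ∀ r ∈ rootSet (i + 1), r ∈ rootSet i ∧ rf 3 r ∈ rootSet i := by decide +kernel

theorem top_mem : 239 ∈ rootSet 5 := by decide +kernel

end Cfsg.Agent.IteratedCores
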