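/-
Root elements of E8 over the field with two elements and the maximal parabolic subgroup of the branch node.
-/
import Cfsg.Agent.Lib.IteratedCores.E8Facts
import Cfsg.Agent.Lib.Chev.Parabolic
import Cfsg.Agent.Lib.Chev.ParaCerts
import Cfsg.Agent.Lib.Chev.RootCerts
import Cfsg.Agent.Lib.Chev.Seven
import Cfsg.Agent.Lib.Chev.Simple
import Cfsg.Agent.Lib.Chev.PerfectSeven
import Cfsg.Agent.Lib.Chev.SimpleGen
import Cfsg.Agent.Lib.Chev.BNStruct
import Cfsg.Agent.Lib.BNPair.Basic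

set_option autoImplicit false

namespace Cfsg.Agent.IteratedCores

open Cfsg.Lie Cfsg.Agent.Chev Cfsg.Agent.Chev.BNSetup

abbrev E8 : ChevalleyDatum := chevE8

abbrev K2 : Type := ZMod 2

/-- The group E8(2). -/
abbrev G8 : Type := ↥(E8.group K2)

theorem good : Good E8 := good_of_mem (by simp)

theorem rank_eq : E8.rank = 8 := rfl

theorem nroots_eq : E8.nroots = 240 := rfl

theorem facts : Facts E8 WeylTab.tabsE8 WeylTab.simpsE8 := facts_chevE8

theorem k2_cases (t : K2) : t = 0 ∨ t = 1 := by revert t; decide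

theorem neg_eq8 {r : ℕ} (hr : r < 240) : E8.neg r = 239 - r := by
  rw [neg_eq facts (nroots_eq ▸ hr)]
  rfl

theorem pos_iff8 {r : ℕ} (hr : r < 240) : E8.IsPosRoot r ↔ 120 ≤ r := pos_iff facts (nroots_eq ▸ hr)

/-- The root element `x_r(1)`. -/
noncomputable def y (r : ℕ) : G8 := good.xgrp (F := K2) r 1

theorem coe_y (r : ℕ) : ((y r : G8) : GL E8.Idx K2) = xe good r 1 :=
  Units.ext (good.coe_xg r 1)

theorem xe_eq (r : ℕ) (hr : r < 240) (t : K2) :
    xe good r t = 1 ∨ xe good r t = ((y r : G8) : GL E8.Idx K2) := by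
  rcases k2_cases t with rfl | rfl
  · exact Or.inl (xe_zero good hr)
  · exact Or.inr (coe_y r).symm

theorem y_ne_one {r : ℕ} (hr : r < 240) : y r ≠ 1 := fun h =>
  xe_ne_one good facts (F := K2) hr one_ne_zero (by rw [← coe_y, h]; rfl)

theorem y_inv {r : ℕ} (hr : r < 240) : (y r)⁻¹ = y r :=
  Subtype.ext (by rw [Subgroup.coe_inv, coe_y, xe_inv good hr]; congr 1)

theorem y_mul_self {r : ℕ} (hr : r < 240) : y r * y r = 1 := by
  nth_rw 1 [← y_inv hr]
  exact inv_mul_cancel _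

/-- The element `n_i`. -/
noncomputable def nd (i : ℕ) : G8 :=
  ⟨ne' good (E8.simple i) 1, by
    by_cases h : E8.simple i < E8.nroots
    · exact Subgroup.mul_mem _ (Subgroup.mul_mem _ (xe_mem_group good h 1)
        (xe_mem_group good (good.neg_lt h) _)) (xe_mem_group good h 1)
    · rw [show ne' good (E8.simple i) (1 : K2) = nG E8 K2 (E8.simple i) 1 from
        Units.ext ((coe_ne' good _ _).trans (good.coe_nG _ _).symm)]
      exact good.nG_mem_group _ _⟩

theorem coe_nd (i : ℕ) : ((nd i : G8) : GL E8.Idx K2) = ne' good (E8.simple i) 1 := rfl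

theorem nd_inv {i : ℕ} (hi : i < 8) : (nd i)⁻¹ = nd i := by
  refine Subtype.ext ?_
  rw [Subgroup.coe_inv, coe_nd, ← ne'_neg good (good.simple_lt hi)]
  congr 1

theorem nd_conj {i : ℕ} (hi : i < 8) {s : ℕ} (hs : s < 240) : nd i * y s * (nd i)⁻¹ = y (rf i s) := by
  obtain ⟨e, he, h, -⟩ := exists_conj good (F := K2) hi hs
  have he1 : e = 1 := (by decide : ∀ a : K2, a * a = 1 → a = 1) e he
  refine Subtype.ext ?_
  rw [Subgroup.coe_mul, Subgroup.coe_mul, Subgroup.coe_inv, coe_nd, coe_y, coe_y, h 1, he1,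
    ← refRows i hi s hs]
  simp

theorem y_comm_cases {i : ℕ} (hi : i < 8) {s : ℕ} (hs : s < 240) (h1 : s ≠ sp i) (h2 : s ≠ 239 - sp i) :
    (ad i s = 240 ∧ y (sp i) * y s * (y (sp i))⁻¹ = y s) ∨
      (ad i s < 240 ∧ y (sp i) * y s * (y (sp i))⁻¹ = y (ad i s) * y s) := by
  obtain ⟨hsp, -, hlt⟩ := simple_eq i hi
  have hrow := ((addRows i hi s hs).resolve_left h1).resolve_left h2
  have hf : ∀ (u : K2), E8.x K2 s u * E8.x K2 (sp i) 1 =
      E8.x K2 (sp i) 1 * E8.x K2 s u * E8.wordMat K2 (E8.commWord K2 (sp i) s 1 u) := fun u =>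
    good.comm_formula hlt hs h1 (by rw [neg_eq8 hlt]; exact h2) 1 u
  by_cases hA : ad i s = 240
  · rw [if_pos hA, List.map_eq_nil_iff] at hrow
    refine Or.inl ⟨hA, ?_⟩
    have e : y s * y (sp i) = y (sp i) * y s := by
      refine Subtype.ext (Units.ext ?_)
      simp only [Subgroup.coe_mul, coe_y, Units.val_mul, coe_xe]
      rw [hf 1, ChevalleyDatum.commWord, hrow]
      simp [ChevalleyDatum.wordMat]
    rw [← e, mul_inv_cancel_right]
  · have hA' : ad i s < 240 := lt_of_le_of_ne (rf_lt i hi s hs).2.2 hA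
    rw [if_neg hA] at hrow
    refine Or.inr ⟨hA', ?_⟩
    obtain ⟨x, hx, hx1⟩ : ∃ x, E8.commTerms (sp i) s = [x] ∧
        (x.1, x.2.1 % 2, x.2.2.1, x.2.2.2) = (ad i s, (1 : ℤ), 1, 1) := by
      rw [List.map_eq_singleton_iff] at hrow
      exact hrow
    simp only [Prod.mk.injEq] at hx1
    obtain ⟨ha, hc, hp, hq⟩ := hx1
    have hcc : ((x.2.1 : ℤ) : K2) = 1 := by
      rw [← ZMod.intCast_mod x.2.1 2]
      simp [hc]
    have e : y s * y (sp i) = y (sp i) * y s * y (ad i s) := by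
      refine Subtype.ext (Units.ext ?_)
      simp only [Subgroup.coe_mul, coe_y, Units.val_mul, coe_xe]
      rw [hf 1, ChevalleyDatum.commWord, hx]
      simp only [List.map_cons, List.map_nil, ha, hcc, hp, hq, ChevalleyDatum.wordMat, List.prod_cons,
        List.prod_nil, mul_one, one_mul, one_pow, pow_one, CharTwo.neg_eq]
    rw [y_inv hlt]
    have h3 : y (sp i) * y s * y (sp i) = y s * y (ad i s) := by
      rw [mul_assoc, e, ← mul_assoc, ← mul_assoc, y_mul_self hlt, one_mul]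
    rw [h3]
    calc y s * y (ad i s) = y (sp i) * y s * y (sp i) := h3.symm
      _ = (y (sp i) * y s * y (sp i))⁻¹ := by
        rw [mul_inv_rev, mul_inv_rev, y_inv hlt, y_inv hs, mul_assoc]
      _ = y (ad i s) * y s := by rw [h3, mul_inv_rev, y_inv hs, y_inv hA']

/-- The fundamental roots of the Levi factor. -/
def J8 : Set ℕ := {j | j ≠ 3}

/-- The maximal parabolic subgroup. -/
noncomputable def P8 : Subgroup G8 := (E8.parabolicSubgroup K2 J8).subgroupOf (E8.group K2)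

theorem y_mem_P8_of_pos {r : ℕ} (hr : r < 240) (hr' : 120 ≤ r) : y r ∈ P8 := by
  rw [P8, Subgroup.mem_subgroupOf, coe_y]
  exact Subgroup.mem_sup_left (Subgroup.mem_sup_left
    (Subgroup.subset_closure ⟨r, 1, (pos_iff8 hr).2 hr', rfl⟩))

theorem nd_mem_P8 {j : ℕ} (hj : j < 8) (hj3 : j ≠ 3) : nd j ∈ P8 := by
  rw [P8, Subgroup.mem_subgroupOf, coe_nd]
  exact Subgroup.mem_sup_right (Subgroup.subset_closure ⟨j, hj3, hj, coe_ne' good _ _⟩)

/-- `P8` is generated by the fundamental root elements and the `n_j` of the Levi factor. -/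
theorem P8_le {K : Subgroup G8} (h1 : ∀ i < 8, y (sp i) ∈ K) (h2 : ∀ j < 8, j ≠ 3 → nd j ∈ K) :
    P8 ≤ K := by
  have hpos : ∀ r, r < 240 → 120 ≤ r → y r ∈ K := by
    intro r
    induction r using Nat.strong_induction_on with
    | _ r ih =>
      intro hr hr'
      rcases pos_derived r hr hr' with ⟨i, hi, rfl⟩ | ⟨i, hi, s, hs, hs', hsr, hne, e⟩
      · exact h1 i hi
      · have hne' : s ≠ 239 - sp i := by have := (simple_eq i hi).2.1; omega
        rcases y_comm_cases hi hs hne hne' with ⟨ha, -⟩ | ⟨-, h⟩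
        · omega
        · rw [e] at h
          rw [← mul_inv_cancel_right (y r) (y s), ← h]
          have hsK := ih s hsr hs hs'
          exact K.mul_mem (K.mul_mem (K.mul_mem (h1 i hi) hsK) (K.inv_mem (h1 i hi))) (K.inv_mem hsK)
  have hle : E8.parabolicSubgroup K2 J8 ≤ K.map (E8.group K2).subtype := by
    refine sup_le (sup_le ?_ ?_) ?_
    · rw [ChevalleyDatum.posUnipotent, Subgroup.closure_le]
      rintro g ⟨r, t, hr, hg⟩
      rw [eq_xe good hg]
      have hr240 : r < 240 := hr.1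
      rcases xe_eq r hr240 t with e | e <;> rw [e]
      · exact Subgroup.one_mem _
      · exact ⟨_, hpos r hr240 ((pos_iff8 hr240).1 hr), rfl⟩
    · rw [ChevalleyDatum.diagonalSubgroup, Subgroup.closure_le]
      rintro g ⟨r, t, hr, ht, hg⟩
      rcases k2_cases t with rfl | rfl
      · exact absurd rfl ht
      · have e : g = he good r (1 : K2) := Units.ext (hg.trans (coe_he good r 1).symm)
        rw [e, he, ne'_neg good hr, mul_inv_cancel]
        exact Subgroup.one_mem _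
    · rw [Subgroup.closure_le]
      rintro g ⟨j, hj3, hj, hg⟩
      exact ⟨nd j, h2 j hj hj3, Units.ext ((coe_ne' good (E8.simple j) 1).trans hg.symm)⟩
  intro x hx
  obtain ⟨z, hz, e⟩ := hle hx
  rwa [← show z = x from Subtype.ext e]

theorem top_le_of_negs {K : Subgroup G8} (h1 : ∀ i < 8, y (sp i) ∈ K)
    (h2 : ∀ i < 8, y (239 - sp i) ∈ K) : K = ⊤ := by
  have h := good.group_le_of_simple (F := K2) (K := K.map (E8.group K2).subtype) ?_ ?_
  · refine eq_top_iff.2 fun x _ => ?_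
    obtain ⟨z, hz, e⟩ := h x.2
    rwa [← show z = x from Subtype.ext e]
  all_goals
    intro i hi t
    obtain ⟨hsp, -, hlt⟩ := simple_eq i hi
    rw [show E8.simple i = sp i from hsp]
  · rcases k2_cases t with rfl | rfl
    · rw [good.xg_zero]; exact Subgroup.one_mem _
    · exact ⟨_, h1 i hi, rfl⟩
  · rw [neg_eq8 hlt]
    rcases k2_cases t with rfl | rfl
    · rw [good.xg_zero]; exact Subgroup.one_mem _
    · exact ⟨_, h2 i hi, rfl⟩

theorem y_negSimple_mem {j : ℕ} (hj : j < 8) {K : Subgroup G8} (hP : y (sp j) ∈ K) (hn : nd j ∈ K) :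
    y (239 - sp j) ∈ K := by
  obtain ⟨-, -, hlt⟩ := simple_eq j hj
  rw [← rf_simple j hj, ← nd_conj hj hlt]
  exact K.mul_mem (K.mul_mem hn hP) (K.inv_mem hn)

theorem eq_top_of_le {K : Subgroup G8} (hK : P8 ≤ K) (h3 : nd 3 ∈ K) : K = ⊤ := by
  refine top_le_of_negs (fun i hi => hK (y_mem_P8_of_pos (simple_eq i hi).2.2 (simple_eq i hi).2.1))
    fun i hi => y_negSimple_mem hi (hK (y_mem_P8_of_pos (simple_eq i hi).2.2 (simple_eq i hi).2.1)) ?_
  by_cases h : i = 3
  · exact h ▸ h3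
  · exact hK (nd_mem_P8 hi h)

theorem nd_ne {j : ℕ} (hj : j < 8) (hj3 : j ≠ 3) : nd j ≠ nd 3 := by
  intro e
  have h1 := nd_conj hj (s := 130) (by norm_num)
  rw [e, nd_conj (by norm_num) (s := 130) (by norm_num), rf_three.1] at h1
  have hlt := (rf_lt j hj 130 (by norm_num)).1
  refine sp_ne j hj hj3 ?_
  by_contra hne
  refine xe_ne good facts (F := K2) hlt (by norm_num [nroots_eq]) hne one_ne_zero 1 ?_
  rw [← coe_y, ← coe_y, h1]

theorem isCoatom_P8 : IsCoatom P8 ∧ nd 3 ∉ P8 := by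
  obtain ⟨P, hB, hN, hS⟩ := exists_bnPair (F := K2) good facts
  set S' : Set G8 := {n | ∃ j < 8, j ≠ 3 ∧ n = nd j} with hS'
  have hmem : ∀ i < 8, nd i ∈ P.S := fun i hi => by
    rw [hS]; exact ⟨i, hi, coe_ne' good _ _⟩
  have hrep : ∀ n ∈ P.S, ∃ i < 8, n = nd i := fun n hn => by
    rw [hS] at hn
    obtain ⟨i, hi, e⟩ := hn
    exact ⟨i, hi, Subtype.ext (Units.ext (e.trans (coe_ne' good _ _).symm))⟩
  have hBP : P.B ≤ P8 := by rw [hB]; exact fun x hx => Subgroup.mem_sup_left hx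
  have hsub : S' ⊆ P.S := by rintro _ ⟨j, hj, -, rfl⟩; exact hmem j hj
  have hP8 : P8 = P.parabolic S' := by
    refine le_antisymm (P8_le (fun i hi => ?_) fun j hj hj3 => ?_) (sup_le hBP ((Subgroup.closure_le _).2 ?_))
    · refine Cfsg.Agent.BN.B_le_parabolic P S' ?_
      rw [hB, Subgroup.mem_subgroupOf, coe_y]
      exact Subgroup.mem_sup_left (Subgroup.subset_closure
        ⟨_, 1, (pos_iff8 (simple_eq i hi).2.2).2 (simple_eq i hi).2.1, rfl⟩)
    · exact Cfsg.Agent.BN.subset_parabolic P S' ⟨j, hj, hj3, rfl⟩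
    · rintro _ ⟨j, hj, hj3, rfl⟩; exact nd_mem_P8 hj hj3
  have h3 : nd 3 ∉ P8 := by
    rw [hP8, Cfsg.Agent.BN.mem_parabolic_iff_of_mem_S P hsub (hmem 3 (by norm_num))]
    rintro ⟨j, hj, hj3, e⟩
    exact nd_ne hj hj3 e.symm
  refine ⟨⟨fun e => h3 (e ▸ Subgroup.mem_top _), fun K hK => ?_⟩, h3⟩
  refine eq_top_of_le hK.le ?_
  by_contra hK3
  refine hK.ne (le_antisymm hK.le ?_)
  rw [Cfsg.Agent.BN.eq_parabolic_inter P (hBP.trans hK.le)]
  refine sup_le hBP ((Subgroup.closure_le _).2 ?_)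
  rintro n ⟨hn, hnK⟩
  obtain ⟨i, hi, rfl⟩ := hrep n hn
  exact nd_mem_P8 hi fun e => hK3 (e ▸ hnK)

theorem y109_not_mem : y 109 ∉ P8 := by
  intro h
  refine isCoatom_P8.1.1 (top_le_of_negs (fun i hi => y_mem_P8_of_pos (simple_eq i hi).2.2 (simple_eq i hi).2.1)
    fun i hi => ?_)
  by_cases h3 : i = 3
  · subst h3; rw [rf_three.2]; exact h
  · exact y_negSimple_mem hi (y_mem_P8_of_pos (simple_eq i hi).2.2 (simple_eq i hi).2.1) (nd_mem_P8 hi h3)

theorem normalCore_P8 : P8.normalCore = ⊥ := by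
  obtain ⟨tabs, simps, w, hf, hw⟩ := exists_facts_longest (D := E8) (by simp)
  obtain ⟨ord, hc⟩ := connected_of_mem (D := E8) (by simp)
  have hperf := perfect_of_mem (F := K2) good (by simp)
    (fun h => by rcases h with h | h <;> exact absurd (congrArg ChevalleyDatum.nroots h) (by decide))
  haveI := (isSimpleGroup_group (F := K2) good hf (negTri_of_mem (by simp)) hw hc hperf).1
  exact (IsSimpleGroup.eq_bot_or_eq_top_of_normal P8.normalCore inferInstance).resolve_right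
    fun e => isCoatom_P8.1.1 (top_le_iff.1 (e ▸ Subgroup.normalCore_le P8))

end Cfsg.Agent.IteratedCores
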