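/-
The iterated cores of the maximal parabolic subgroup of E8(2) and its conjugate by the branch node reflection.
-/
import Cfsg.Agent.Lib.IteratedCores.E8Group

set_option autoImplicit false

namespace Cfsg.Agent.IteratedCores

open Cfsg.Lie Cfsg.Agent.Chev Cfsg.Agent.Chev.BNSetup

attribute [local irreducible] y nd

/-- The largest normal subgroup of `M` inside `X`, as a subgroup of the whole group. -/
def coreIn {G : Type*} [Group G] (M X : Subgroup G) : Subgroup G := (X.subgroupOf M).normalCore.map M.subtype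

section core

variable {G : Type*} [Group G] {M X K : Subgroup G}

theorem coreIn_le : coreIn M X ≤ X := by
  rintro _ ⟨z, hz, rfl⟩
  exact Subgroup.mem_subgroupOf.1 ((Subgroup.normalCore_le (X.subgroupOf M)) hz)

theorem coreIn_le_left : coreIn M X ≤ M := by
  rintro _ ⟨z, -, rfl⟩
  exact z.2

theorem conj_mem_coreIn {m x : G} (hm : m ∈ M) (hx : x ∈ coreIn M X) : m * x * m⁻¹ ∈ coreIn M X := by
  obtain ⟨z, hz, rfl⟩ := hx
  exact ⟨⟨m, hm⟩ * z * ⟨m, hm⟩⁻¹, Subgroup.normalCore_normal (X.subgroupOf M) |>.conj_mem z hz _, rfl⟩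

theorem le_coreIn (hKM : K ≤ M) (hKX : K ≤ X) (hn : M ≤ Subgroup.normalizer (K : Set G)) :
    K ≤ coreIn M X := by
  intro x hx
  refine ⟨⟨x, hKM hx⟩, ?_, rfl⟩
  haveI : (K.subgroupOf M).Normal := ⟨fun z hz m => by
    rw [Subgroup.mem_subgroupOf] at hz ⊢
    exact (Subgroup.mem_normalizer_iff.1 (hn m.2) z).1 hz⟩
  exact (Subgroup.normal_le_normalCore (H := X.subgroupOf M) (N := K.subgroupOf M)).2
    (fun z (hz : (z : G) ∈ K) => hKX hz) hx

theorem closure_conj_mem {S : Set G} {m : G} (h : ∀ s ∈ S, m * s * m⁻¹ ∈ K) {x : G}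
    (hx : x ∈ Subgroup.closure S) : m * x * m⁻¹ ∈ K :=
  ((Subgroup.closure_le (K.comap (MulAut.conj m).toMonoidHom)).2 h) hx

theorem mem_map_conj {m x : G} (hx : x ∈ K) : m * x * m⁻¹ ∈ K.map (MulAut.conj m).toMonoidHom :=
  ⟨x, hx, rfl⟩

theorem map_conj_le {Y : Subgroup G} {m : G} (h : ∀ x ∈ K, m * x * m⁻¹ ∈ Y) :
    K.map (MulAut.conj m).toMonoidHom ≤ Y := by
  rintro _ ⟨x, hx, rfl⟩
  exact h x hx

theorem mem_of_mem_map_conj {m x : G} (hx : m * x * m⁻¹ ∈ K.map (MulAut.conj m).toMonoidHom) : x ∈ K := by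
  obtain ⟨z, hz, e⟩ := hx
  rwa [(MulAut.conj m).injective e] at hz

theorem eq_of_conj {x u : G} (h : x * u * x⁻¹ * u⁻¹ = 1) : x * u = u * x :=
  mul_inv_eq_iff_eq_mul.1 (mul_inv_eq_one.1 h)

end core

/-- The conjugating element. -/
noncomputable def g8 : G8 := nd 3

/-- The conjugate parabolic subgroup. -/
noncomputable def Q8 : Subgroup G8 := P8.map (MulAut.conj g8).toMonoidHom

/-- The two sequences of iterated cores. -/
noncomputable def coreSeq : ℕ → Subgroup G8 × Subgroup G8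
  | 0 => (P8, Q8)
  | i + 1 => (coreIn P8 ((coreSeq i).1 ⊓ (coreSeq i).2), coreIn Q8 ((coreSeq i).1 ⊓ (coreSeq i).2))

theorem g8_conj {s : ℕ} (hs : s < 240) : g8 * y s * g8⁻¹ = y (rf 3 s) := nd_conj (by norm_num) hs

theorem g8_inv : g8⁻¹ = g8 := nd_inv (by norm_num)

theorem mem_Q8 {x : G8} : x ∈ Q8 ↔ g8 * x * g8⁻¹ ∈ P8 := by
  rw [Q8, Subgroup.mem_map_equiv, MulAut.conj_symm_apply, g8_inv]

/-! ### Bounds from below -/

/-- The subgroup of a set of roots. -/
noncomputable def gen (l : List ℕ) : Subgroup G8 := Subgroup.closure {x | ∃ r ∈ l, x = y r}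

theorem y_mem_gen {l : List ℕ} {r : ℕ} (hr : r ∈ l) : y r ∈ gen l := Subgroup.subset_closure ⟨r, hr, rfl⟩

theorem gen_le {l : List ℕ} {K : Subgroup G8} (h : ∀ r ∈ l, y r ∈ K) : gen l ≤ K := by
  rw [gen, Subgroup.closure_le]
  rintro _ ⟨r, hr, rfl⟩
  exact h r hr

theorem P8_le_normalizer_gen {l : List ℕ} (hl : ClosedSet l) :
    P8 ≤ Subgroup.normalizer (gen l : Set G8) := by
  have key : ∀ m : G8, m⁻¹ = m → (∀ s ∈ l, m * y s * m⁻¹ ∈ gen l) →
      m ∈ Subgroup.normalizer (gen l : Set G8) := by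
    intro m hm h
    have h' : ∀ x ∈ gen l, m * x * m⁻¹ ∈ gen l := fun x hx =>
      closure_conj_mem (by rintro _ ⟨s, hs, rfl⟩; exact h s hs) hx
    refine Subgroup.mem_normalizer_iff.2 fun x => ⟨h' x, fun hx => ?_⟩
    have := h' _ hx
    have e : m * (m * x * m⁻¹) * m⁻¹ = m * m * x * (m * m)⁻¹ := by group
    rw [e, show m * m = 1 by nth_rw 1 [← hm]; exact inv_mul_cancel m] at this
    simpa using this
  refine P8_le (fun i hi => key _ (y_inv (simple_eq i hi).2.2) fun s hs => ?_)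
    fun j hj hj3 => key _ (nd_inv hj) fun s hs => ?_
  · obtain ⟨hs240, hc⟩ := hl s hs
    rcases (hc i hi).2 with h | ⟨h, hpl⟩ | ⟨hne, hA⟩
    · rw [← h, mul_inv_cancel_right]
      exact y_mem_gen hs
    · exact Subgroup.mul_mem _ (Subgroup.mul_mem _ (y_mem_gen hpl) (y_mem_gen hs))
        (Subgroup.inv_mem _ (y_mem_gen hpl))
    · by_cases h1 : s = sp i
      · rw [← h1, mul_inv_cancel_right]
        exact y_mem_gen hs
      rcases y_comm_cases hi hs240 h1 hne with ⟨-, e⟩ | ⟨ha, e⟩ <;> rw [e]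
      · exact y_mem_gen hs
      · exact Subgroup.mul_mem _ (y_mem_gen (hA.resolve_left (by omega))) (y_mem_gen hs)
  · obtain ⟨hs240, hc⟩ := hl s hs
    rw [nd_conj hj hs240]
    exact y_mem_gen ((hc j hj).1 hj3)

theorem y_mem_P8 {r : ℕ} (hr : r ∈ rootSet 0) : y r ∈ P8 := by
  have hlt : ∀ r ∈ rootSet 0, r < 240 := fun r h => (sets_closed 0 (by norm_num) r h).1
  suffices ∀ n r, 240 - r = n → r ∈ rootSet 0 → y r ∈ P8 from this _ r rfl hr
  intro n
  induction n using Nat.strong_induction_on with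
  | _ n ih =>
    intro r hn hr
    rcases levi_derived r hr with h | ⟨j, hj, hj3, hlt', hmem⟩
    · exact y_mem_P8_of_pos (hlt r hr) h
    · have h1 := ih (240 - rf j r) (by have := hlt r hr; omega) _ rfl hmem
      have e : y r = nd j * y (rf j r) * (nd j)⁻¹ := by
        rw [nd_conj hj (hlt _ hmem), (rf_lt j hj r (hlt r hr)).2.1]
      rw [e]
      exact P8.mul_mem (P8.mul_mem (nd_mem_P8 hj hj3) h1) (P8.inv_mem (nd_mem_P8 hj hj3))

theorem lower : ∀ i ≤ 5, ∀ r ∈ rootSet i, y r ∈ (coreSeq i).1 ∧ y (rf 3 r) ∈ (coreSeq i).2 := by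
  intro i
  induction i with
  | zero =>
    intro _ r hr
    refine ⟨y_mem_P8 hr, ?_⟩
    have h240 := (sets_closed 0 (by norm_num) r hr).1
    rw [← g8_conj h240]
    exact mem_map_conj (y_mem_P8 hr)
  | succ i ih =>
    intro hi r hr
    have hcl := sets_closed (i + 1) (by omega)
    have hst := sets_step i (by omega)
    have h0 : ∀ s ∈ rootSet (i + 1), s ∈ rootSet 0 := by
      have key : ∀ k ≤ 5, ∀ s ∈ rootSet k, s ∈ rootSet 0 := by
        intro k
        induction k with
        | zero => exact fun _ s h => h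
        | succ k ihk => exact fun hk s h => ihk (by omega) s (sets_step k (by omega) s h).1
      exact key (i + 1) hi
    have hA : ∀ s ∈ rootSet (i + 1), y s ∈ (coreSeq i).1 ⊓ (coreSeq i).2 := fun s hs => by
      refine ⟨(ih (by omega) s (hst s hs).1).1, ?_⟩
      have := (ih (by omega) _ (hst s hs).2).2
      rwa [(rf_lt 3 (by norm_num) s (hcl s hs).1).2.1] at this
    have hB : ∀ s ∈ rootSet (i + 1), y (rf 3 s) ∈ (coreSeq i).1 ⊓ (coreSeq i).2 := fun s hs =>
      ⟨(ih (by omega) _ (hst s hs).2).1, (ih (by omega) s (hst s hs).1).2⟩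
    have hn := P8_le_normalizer_gen hcl
    constructor
    · exact le_coreIn (gen_le fun s hs => y_mem_P8 (h0 s hs)) (gen_le hA) hn (y_mem_gen hr)
    · refine le_coreIn (K := (gen (rootSet (i + 1))).map (MulAut.conj g8).toMonoidHom)
        (Subgroup.map_mono (gen_le fun s hs => y_mem_P8 (h0 s hs))) ?_ ?_
        (by rw [← g8_conj (hcl r hr).1]; exact mem_map_conj (y_mem_gen hr))
      · refine map_conj_le fun x hx => closure_conj_mem ?_ hx
        rintro _ ⟨s, hs, rfl⟩
        rw [g8_conj (hcl s hs).1]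
        exact hB s hs
      · exact (Subgroup.map_mono hn).trans (Subgroup.le_normalizer_map _)

/-! ### Bounds from above -/

/-- Pairs `(i, r)` with `y r` outside the `i`-th core. -/
inductive Out : ℕ → ℕ → Prop
  | base : Out 0 109
  | swap (i r r' : ℕ) (hr : r < 240) (e : r' = rf 3 r) : Out i r' → Out (i + 1) r
  | refl (i r r' j : ℕ) (hr : r < 240) (hj : j < 8) (hj3 : j ≠ 3) (e : r' = rf j r) : Out i r' → Out i r

theorem Out.not_mem {i r : ℕ} (h : Out i r) : y r ∉ (coreSeq i).1 ∧ y (rf 3 r) ∉ (coreSeq i).2 := by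
  induction h with
  | base =>
    refine ⟨y109_not_mem, fun h => ?_⟩
    rw [← g8_conj (by norm_num : (109 : ℕ) < 240)] at h
    exact y109_not_mem (mem_of_mem_map_conj h)
  | swap i r r' hr e _ ih =>
    subst e
    rw [(rf_lt 3 (by norm_num) r hr).2.1] at ih
    exact ⟨fun h => ih.2 ((coreIn_le h).2), fun h => ih.1 ((coreIn_le h).1)⟩
  | refl i r r' j hr hj hj3 e _ ih =>
    subst e
    have hn := nd_mem_P8 hj hj3
    have hn' : g8 * nd j * g8⁻¹ ∈ Q8 := mem_map_conj hn
    have e1 : nd j * y r * (nd j)⁻¹ = y (rf j r) := nd_conj hj hr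
    have e2 : g8 * nd j * g8⁻¹ * y (rf 3 r) * (g8 * nd j * g8⁻¹)⁻¹ = y (rf 3 (rf j r)) := by
      rw [← g8_conj hr, ← g8_conj (rf_lt j hj r hr).1, ← e1]
      group
    refine ⟨fun h => ih.1 ?_, fun h => ih.2 ?_⟩
    · rw [← e1]
      cases i with
      | zero => exact P8.mul_mem (P8.mul_mem hn h) (P8.inv_mem hn)
      | succ i => exact conj_mem_coreIn hn h
    · rw [← e2]
      cases i with
      | zero => exact Q8.mul_mem (Q8.mul_mem hn' h) (Q8.inv_mem hn')
      | succ i => exact conj_mem_coreIn hn' h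

theorem out_five : Out 5 234 := by
  refine .refl _ _ 232 1 (by norm_num) (by norm_num) (by norm_num) (by decide +kernel) ?_
  refine .refl _ _ 231 2 (by norm_num) (by norm_num) (by norm_num) (by decide +kernel) ?_
  refine .swap _ _ 230 (by norm_num) (by decide +kernel) ?_
  refine .refl _ _ 223 0 (by norm_num) (by norm_num) (by norm_num) (by decide +kernel) ?_
  refine .refl _ _ 218 2 (by norm_num) (by norm_num) (by norm_num) (by decide +kernel) ?_
  refine .refl _ _ 217 4 (by norm_num) (by norm_num) (by norm_num) (by decide +kernel) ?_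
  refine .swap _ _ 213 (by norm_num) (by decide +kernel) ?_
  refine .refl _ _ 203 1 (by norm_num) (by norm_num) (by norm_num) (by decide +kernel) ?_
  refine .refl _ _ 202 5 (by norm_num) (by norm_num) (by norm_num) (by decide +kernel) ?_
  refine .refl _ _ 199 4 (by norm_num) (by norm_num) (by norm_num) (by decide +kernel) ?_
  refine .swap _ _ 193 (by norm_num) (by decide +kernel) ?_
  refine .refl _ _ 183 2 (by norm_num) (by norm_num) (by norm_num) (by decide +kernel) ?_
  refine .refl _ _ 161 0 (by norm_num) (by norm_num) (by norm_num) (by decide +kernel) ?_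
  refine .refl _ _ 160 6 (by norm_num) (by norm_num) (by norm_num) (by decide +kernel) ?_
  refine .refl _ _ 158 5 (by norm_num) (by norm_num) (by norm_num) (by decide +kernel) ?_
  refine .refl _ _ 155 4 (by norm_num) (by norm_num) (by norm_num) (by decide +kernel) ?_
  refine .swap _ _ 151 (by norm_num) (by decide +kernel) ?_
  refine .refl _ _ 140 1 (by norm_num) (by norm_num) (by norm_num) (by decide +kernel) ?_
  refine .refl _ _ 134 2 (by norm_num) (by norm_num) (by norm_num) (by decide +kernel) ?_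
  refine .refl _ _ 133 7 (by norm_num) (by norm_num) (by norm_num) (by decide +kernel) ?_
  refine .refl _ _ 132 6 (by norm_num) (by norm_num) (by norm_num) (by decide +kernel) ?_
  refine .refl _ _ 131 5 (by norm_num) (by norm_num) (by norm_num) (by decide +kernel) ?_
  refine .refl _ _ 130 4 (by norm_num) (by norm_num) (by norm_num) (by decide +kernel) ?_
  exact .swap _ _ 109 (by norm_num) (by decide +kernel) .base

/-! ### Normal subgroups of the parabolic subgroup -/

theorem mem_U_iff {x : GL E8.Idx K2} : x ∈ E8.posUnipotent K2 ↔ x ∈ Uge good K2 120 := by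
  rw [← Uge_eq_U good facts]
  rfl

theorem comm_Uge {i : ℕ} (hi : i < 8) {k : ℕ} (hk : 120 ≤ k) (hk' : k < 240) (ha : ad i k < 240)
    (hka : k < ad i k) {v : GL E8.Idx K2} (hv : v ∈ Uge good K2 (k + 1)) :
    (y (sp i) : GL E8.Idx K2) * v * (y (sp i) : GL E8.Idx K2)⁻¹ * v⁻¹ ∈ Uge good K2 (ad i k + 1) := by
  have hhalf : E8.nroots / 2 = 120 := rfl
  rw [Uge] at hv
  induction hv using Subgroup.closure_induction with
  | mem x hx =>
    obtain ⟨b, t, hb, hkb, rfl⟩ := hx
    have hb' : b < 240 := hb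
    rcases xe_eq b hb' t with e | e
    · rw [e]; simp
    rw [e, ← Subgroup.coe_inv, ← Subgroup.coe_inv, ← Subgroup.coe_mul, ← Subgroup.coe_mul,
      ← Subgroup.coe_mul]
    obtain ⟨-, hlow, hsp⟩ := simple_eq i hi
    by_cases hbp : b = sp i
    · subst hbp
      simp
    rcases y_comm_cases hi hb' hbp (by omega) with ⟨-, e'⟩ | ⟨hab, e'⟩ <;> rw [e']
    · simp
    · rw [mul_inv_cancel_right, coe_y]
      exact xe_mem_Uge good hab (ad_mono hi hk hb' (by omega) ha hab) _
  | one => simp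
  | mul a b ha' _ iha ihb =>
    have haB : a ∈ (data good K2).B := by
      refine RootBN.Data.U_le_B ?_
      rw [data_U good facts, ← Uge_eq_U good facts]
      exact Uge_anti good (by omega) ha'
    have h2 := borel_conj_Uge good facts (by omega) haB ihb
    have e : (y (sp i) : GL E8.Idx K2) * (a * b) * (y (sp i) : GL E8.Idx K2)⁻¹ * (a * b)⁻¹ =
        ((y (sp i) : GL E8.Idx K2) * a * (y (sp i) : GL E8.Idx K2)⁻¹ * a⁻¹) *
          (a * ((y (sp i) : GL E8.Idx K2) * b * (y (sp i) : GL E8.Idx K2)⁻¹ * b⁻¹) * a⁻¹) := by group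
    rw [e]
    exact Subgroup.mul_mem _ iha h2
  | inv a ha' iha =>
    have haB : a⁻¹ ∈ (data good K2).B := by
      refine RootBN.Data.U_le_B ?_
      rw [data_U good facts, ← Uge_eq_U good facts]
      exact Subgroup.inv_mem _ (Uge_anti good (by omega) ha')
    have h2 := borel_conj_Uge good facts (by omega) haB (Subgroup.inv_mem _ iha)
    have e : (y (sp i) : GL E8.Idx K2) * a⁻¹ * (y (sp i) : GL E8.Idx K2)⁻¹ * a⁻¹⁻¹ =
        a⁻¹ * ((y (sp i) : GL E8.Idx K2) * a * (y (sp i) : GL E8.Idx K2)⁻¹ * a⁻¹)⁻¹ * a⁻¹⁻¹ := by group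
    rw [e]
    exact h2

theorem top_mem_of_normal {N : Subgroup G8} (hN : N ≤ P8) (hn : ∀ m ∈ P8, ∀ x ∈ N, m * x * m⁻¹ ∈ N)
    (hne : N ≠ ⊥) : y 239 ∈ N := by
  have desc : ∀ n k, 240 - k = n → 120 ≤ k → ∀ z ∈ N, z ≠ 1 → (z : GL E8.Idx K2) ∈ Uge good K2 k →
      y 239 ∈ N := by
    intro n
    induction n using Nat.strong_induction_on with
    | _ n ih =>
      intro k hkn hk z hz hz1 hzU
      by_cases hk240 : 240 ≤ k
      · rw [Uge_top good (k := k) hk240, Subgroup.mem_bot] at hzU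
        exact absurd (Subtype.ext hzU) hz1
      rw [not_le] at hk240
      obtain ⟨t, v, hv, hzv⟩ := Uge_split good facts hk240 hk hzU
      rcases xe_eq k hk240 t with e | e
      · rw [e, one_mul] at hzv
        exact ih _ (by omega) (k + 1) rfl (by omega) z hz hz1 (hzv ▸ hv)
      rw [e] at hzv
      by_cases hk239 : k = 239
      · subst hk239
        rw [Uge_top good (k := 239 + 1) (by norm_num [nroots_eq]), Subgroup.mem_bot] at hv
        rw [hv, mul_one] at hzv
        exact (Subtype.ext hzv : z = y 239) ▸ hz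
      obtain ⟨i, hi, hki, ha, hka⟩ := raise k (by omega) hk
      obtain ⟨-, hlow, hsp⟩ := simple_eq i hi
      have hp : y (sp i) ∈ P8 := y_mem_P8_of_pos hsp hlow
      set c : G8 := y (sp i) * z * (y (sp i))⁻¹ * z⁻¹ with hc
      have hcN : c ∈ N := N.mul_mem (hn _ hp z hz) (N.inv_mem hz)
      set w : GL E8.Idx K2 := (y (sp i) : GL E8.Idx K2) * v * (y (sp i) : GL E8.Idx K2)⁻¹ * v⁻¹ with hw
      have hwU := comm_Uge hi hk hk240 ha hka hv
      obtain ⟨-, e'⟩ := (y_comm_cases hi hk240 hki (by omega)).resolve_left (fun h => by omega)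
      have e'' : (y (sp i) : GL E8.Idx K2) * (y k : GL E8.Idx K2) * (y (sp i) : GL E8.Idx K2)⁻¹ =
          (y (ad i k) : GL E8.Idx K2) * (y k : GL E8.Idx K2) := by
        simpa using congrArg (fun x : G8 => (x : GL E8.Idx K2)) e'
      have hce : (c : GL E8.Idx K2) =
          (y (ad i k) : GL E8.Idx K2) * ((y k : GL E8.Idx K2) * w * (y k : GL E8.Idx K2)⁻¹) := by
        calc (c : GL E8.Idx K2) = ((y (sp i) : GL E8.Idx K2) * (y k : GL E8.Idx K2) *
              (y (sp i) : GL E8.Idx K2)⁻¹) * w * (y k : GL E8.Idx K2)⁻¹ := by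
              simp only [hc, Subgroup.coe_mul, Subgroup.coe_inv, hzv, hw]
              group
          _ = _ := by rw [e'']; group
      have hykB : (y k : GL E8.Idx K2) ∈ (data good K2).B := by
        refine RootBN.Data.U_le_B ?_
        rw [data_U good facts, ← Uge_eq_U good facts, coe_y]
        exact xe_mem_Uge good hk240 hk _
      have htail := borel_conj_Uge good facts (by have : E8.nroots / 2 = 120 := rfl; omega) hykB hwU
      refine ih _ (by omega) (ad i k) rfl (by omega) c hcN ?_ ?_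
      · intro h1
        rw [h1, Subgroup.coe_one] at hce
        have h2 : (y (ad i k) : GL E8.Idx K2) ∈ Uge good K2 (ad i k + 1) :=
          (Subgroup.mul_mem_cancel_right _ htail).1 (hce ▸ Subgroup.one_mem _)
        rw [coe_y] at h2
        exact one_ne_zero (Uge_xe_eq_zero good facts ha (by have : E8.nroots / 2 = 120 := rfl; omega) h2)
      · rw [hce]
        refine Subgroup.mul_mem _ ?_ (Uge_succ_le good _ htail)
        rw [coe_y]
        exact xe_mem_Uge good ha le_rfl _
  obtain ⟨k, M, hk', hM'⟩ := exists_rootCerts (D := E8) (by simp)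
  have hB := paraFact_chevE8
  have hnorm := parabolic_le_normalizer_radical (F := K2) good facts hM' hB J8
  obtain ⟨z, hz, hz1⟩ := N.ne_bot_iff_exists_ne_one.1 hne |> fun ⟨a, ha⟩ => (⟨a, a.2, fun e => ha (Subtype.ext e)⟩ :
    ∃ z, z ∈ N ∧ z ≠ 1)
  suffices ∃ w ∈ N, w ≠ 1 ∧ (w : GL E8.Idx K2) ∈ E8.posUnipotent K2 by
    obtain ⟨w, hw, hw1, hwU⟩ := this
    exact desc _ 120 rfl le_rfl w hw hw1 (mem_U_iff.1 hwU)
  have hUJ : E8.unipotentRadical K2 J8 ≤ E8.posUnipotent K2 := by
    rw [ChevalleyDatum.unipotentRadical, Subgroup.closure_le]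
    rintro g ⟨r, t, hr, -, hg⟩
    exact Subgroup.subset_closure ⟨r, t, hr, hg⟩
  by_cases hcomm : ∀ u ∈ E8.unipotentRadical K2 J8, (z : GL E8.Idx K2) * u = u * z
  · exact ⟨z, hz, hz1, centraliser_radical_le good facts hM' hB hk' (J := J8) ⟨3, by norm_num [rank_eq], fun h : (3 : ℕ) ∈ J8 => h rfl⟩
      z.2 hcomm⟩
  push_neg at hcomm
  obtain ⟨u, hu, hne'⟩ := hcomm
  have huG : u ∈ E8.group K2 := ChevSylow.posUnipotent_le_group good facts (hUJ hu)
  have huP : (⟨u, huG⟩ : G8) ∈ P8 := Subgroup.mem_sup_left (Subgroup.mem_sup_left (hUJ hu))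
  refine ⟨z * ⟨u, huG⟩ * z⁻¹ * (⟨u, huG⟩ : G8)⁻¹, ?_, ?_, ?_⟩
  · have := N.mul_mem hz (hn _ huP _ (N.inv_mem hz))
    simpa [mul_assoc] using this
  · intro h
    refine hne' ?_
    have h' := congrArg Subtype.val h
    simp only [Subgroup.coe_mul, Subgroup.coe_inv, Subgroup.coe_one] at h'
    exact eq_of_conj (x := (z : GL E8.Idx K2)) h'
  · refine Subgroup.mul_mem _ ?_ (Subgroup.inv_mem _ (hUJ hu))
    exact hUJ ((Subgroup.mem_normalizer_iff.1 (hnorm (hN hz)) u).1 hu)

theorem coreSeq_six : (coreSeq 6).1 = ⊥ := by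
  by_contra hne
  have hN : (coreSeq 6).1 ≤ P8 := coreIn_le_left
  have h239 := top_mem_of_normal hN (fun m hm x hx => conj_mem_coreIn hm hx) hne
  have step : ∀ j < 8, j ≠ 3 → ∀ r < 240, y r ∈ (coreSeq 6).1 → y (rf j r) ∈ (coreSeq 6).1 := by
    intro j hj hj3 r hr h
    rw [← nd_conj hj hr]
    exact conj_mem_coreIn (nd_mem_P8 hj hj3) h
  have h238 := step 7 (by norm_num) (by norm_num) 239 (by norm_num) h239
  rw [show rf 7 239 = 238 by decide +kernel] at h238
  have h237 := step 6 (by norm_num) (by norm_num) 238 (by norm_num) h238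
  rw [show rf 6 238 = 237 by decide +kernel] at h237
  have h236 := step 5 (by norm_num) (by norm_num) 237 (by norm_num) h237
  rw [show rf 5 237 = 236 by decide +kernel] at h236
  have h235 := step 4 (by norm_num) (by norm_num) 236 (by norm_num) h236
  rw [show rf 4 236 = 235 by decide +kernel] at h235
  have h5 : y 235 ∈ (coreSeq 5).2 := (coreIn_le h235).2
  have h234 := out_five.not_mem.2
  rw [show rf 3 234 = 235 by decide +kernel] at h234
  exact h234 h5

theorem coreSeq_five : (coreSeq 5).1 ≠ ⊥ := fun h =>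
  y_ne_one (by norm_num : (239 : ℕ) < 240)
    (Subgroup.mem_bot.1 (h ▸ (lower 5 le_rfl 239 top_mem).1))

theorem P8_ne_Q8 : P8 ≠ Q8 := fun h => by
  apply y109_not_mem
  rw [h, mem_Q8, g8_conj (by norm_num), show rf 3 109 = 130 by decide +kernel]
  exact y_mem_P8_of_pos (by norm_num) (by norm_num)

end Cfsg.Agent.IteratedCores
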